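import Mathlib

/-!
# Norm surjectivity for involutions of finite commutative rings
-/

set_option autoImplicit false
set_option linter.style.haveILetI false

namespace Cfsg.Agent.UnitaryConj

variable {R : Type*} [CommRing R] (ι : R ≃+* R)

/-- Hilbert 90: for `ι u · u = 1` there is `r` with `r + u ι r` invertible. -/
theorem exists_isUnit_add [Finite R] (hι : ∀ x, ι (ι x) = x) {ω : R} (hω : IsUnit (ι ω - ω))
    {u : R} (hu : ι u * u = 1) : ∃ r, IsUnit (r + u * ι r) := by
  classical
  have huu : IsUnit (ι u) := IsUnit.of_mul_eq_one _ hu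
  have hsym : ∀ (M : Ideal R), M.IsPrime → ∀ r, r + u * ι r ∈ M ↔ r + u * ι r ∈ M.comap ι := by
    intro M hM r
    have h1 : ι (r + u * ι r) = ι u * (r + u * ι r) := by
      rw [map_add, map_mul, hι]
      linear_combination (-ι r) * hu
    rw [Ideal.mem_comap, h1]
    exact ⟨fun h => M.mul_mem_left _ h, fun h => (hM.mem_or_mem h).resolve_left
      fun h' => hM.ne_top (Ideal.eq_top_of_isUnit_mem M h' huu)⟩
  have key : ∀ T : Finset (Ideal R), (∀ M ∈ T, M.IsMaximal) →
      ∃ r, ∀ M ∈ T, r + u * ι r ∉ M := by
    intro T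
    induction T using Finset.induction with
    | empty => exact fun _ => ⟨0, by simp⟩
    | insert M T hMT ih =>
      intro hmax
      obtain ⟨r, hr⟩ := ih fun N hN => hmax N (Finset.mem_insert_of_mem hN)
      by_cases hM : r + u * ι r ∈ M
      swap
      · exact ⟨r, fun N hN => (Finset.mem_insert.1 hN).elim (fun h => h ▸ hM) (hr N)⟩
      have hMmax := hmax M (Finset.mem_insert_self M T)
      have hMp := hMmax.isPrime
      have hM' : r + u * ι r ∈ M.comap ι := (hsym M hMp r).1 hM
      -- elements of the good ideals outside `M` and `ι M`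
      have hsep : ∀ N ∈ T, ∃ a ∈ N, a ∉ M ∧ ι a ∉ M := by
        intro N hN
        have hNmax := hmax N (Finset.mem_insert_of_mem hN)
        by_contra hcon
        push Not at hcon
        have hsub : (N : Set R) ⊆ (M : Set R) ∪ (M.comap ι : Set R) := fun a ha => by
          by_cases haM : a ∈ M
          · exact Or.inl haM
          · exact Or.inr (hcon a ha haM)
        rcases Ideal.subset_union.1 hsub with h | h
        · exact hr N hN (hNmax.eq_of_le hMp.ne_top h ▸ hM)
        · refine hr N hN (hNmax.eq_of_le ?_ h ▸ hM')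
          exact (Ideal.IsPrime.comap ι (hK := hMp)).ne_top
      choose! a haN haM haM' using hsep
      set e : R := ∏ N ∈ T, a N * ι (a N) with he
      have hef : ι e = e := by
        rw [he, map_prod]
        exact Finset.prod_congr rfl fun N _ => by rw [map_mul, hι, mul_comm]
      have heM : e ∉ M := by
        intro h
        obtain ⟨N, hN, hN'⟩ := hMp.prod_mem_iff.1 h
        exact (hMp.mem_or_mem hN').elim (haM N hN) (haM' N hN)
      have heN : ∀ N ∈ T, e ∈ N := fun N hN => by
        rw [he, ← Finset.mul_prod_erase T _ hN]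
        exact N.mul_mem_right _ (N.mul_mem_right _ (haN N hN))
      obtain ⟨s, hs⟩ : ∃ s, s + u * ι s ∉ M := by
        by_contra hcon
        push Not at hcon
        have h1 : ι ω - ω ∈ M := by
          have := M.sub_mem (M.mul_mem_left (ι ω) (hcon 1)) (hcon ω)
          rw [map_one] at this
          convert this using 1
          ring
        exact hMp.ne_top (Ideal.eq_top_of_isUnit_mem M h1 hω)
      refine ⟨r + e * s, fun N hN => ?_⟩
      have heq : r + e * s + u * ι (r + e * s) = (r + u * ι r) + e * (s + u * ι s) := by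
        rw [map_add, map_mul, hef]
        ring
      rw [heq]
      intro hmem
      rcases Finset.mem_insert.1 hN with rfl | hN
      · exact (hMp.mem_or_mem ((N.add_mem_iff_right hM).1 hmem)).elim heM hs
      · exact hr N hN ((N.add_mem_iff_left (N.mul_mem_right _ (heN N hN))).1 hmem)
  haveI : Fintype (Ideal R) := Fintype.ofFinite _
  obtain ⟨r, hr⟩ := key (Finset.univ.filter fun M : Ideal R => M.IsMaximal) (by simp)
  refine ⟨r, ?_⟩
  by_contra hnu
  obtain ⟨M, hM, hrM⟩ := exists_max_ideal_of_mem_nonunits hnu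
  exact hr M (by simp [hM]) hrM

/-- Every invertible fixed element is a norm. -/
theorem exists_norm_eq [Finite R] (hι : ∀ x, ι (ι x) = x) {ω : R} (hω : IsUnit (ι ω - ω))
    (h : Rˣ) (hfix : ι (h : R) = h) : ∃ x : Rˣ, ι (x : R) * x = h := by
  let j : Rˣ →* Rˣ := Units.map (ι : R →+* R).toMonoidHom
  have hj : ∀ x : Rˣ, ((j x : Rˣ) : R) = ι (x : R) := fun _ => rfl
  have hjj : ∀ x, j (j x) = x := fun x => Units.ext (hι x)
  let N : Rˣ →* Rˣ := j * MonoidHom.id Rˣ
  let ψ : Rˣ →* Rˣ := MonoidHom.id Rˣ / j
  have h1 : N.range ≤ ψ.ker := by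
    rintro _ ⟨x, rfl⟩
    rw [MonoidHom.mem_ker]
    show j x * x / j (j x * x) = 1
    rw [map_mul, hjj, mul_comm x, div_self']
  have h2 : ψ.range = N.ker := by
    apply le_antisymm
    · rintro _ ⟨x, rfl⟩
      rw [MonoidHom.mem_ker]
      show j (x / j x) * (x / j x) = 1
      rw [map_div, hjj, div_mul_div_comm, mul_comm, div_self']
    · intro u hu
      have hu' : ι (u : R) * (u : R) = 1 := congrArg Units.val (MonoidHom.mem_ker.1 hu)
      obtain ⟨r, hr⟩ := exists_isUnit_add ι hι hω hu'
      refine ⟨hr.unit, ?_⟩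
      show hr.unit / j hr.unit = u
      rw [div_eq_iff_eq_mul]
      refine Units.ext ?_
      rw [Units.val_mul, hj, IsUnit.unit_spec, map_add, map_mul, hι]
      linear_combination (-r) * hu'
  have hN := N.ker.card_mul_index
  have hψ := ψ.ker.card_mul_index
  rw [Subgroup.index_ker] at hN hψ
  rw [h2] at hψ
  have heq : Nat.card N.range = Nat.card ψ.ker := by
    have hpos : 0 < Nat.card N.ker := Nat.card_pos
    have := hN.trans hψ.symm
    rw [mul_comm (Nat.card ψ.ker)] at this
    exact Nat.eq_of_mul_eq_mul_left hpos this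
  have hle : N.range = ψ.ker := Subgroup.eq_of_le_of_card_ge h1 heq.ge
  obtain ⟨x, hx⟩ : h ∈ N.range := by
    rw [hle, MonoidHom.mem_ker]
    show h / j h = 1
    rw [show j h = h from Units.ext hfix, div_self']
  exact ⟨x, congrArg Units.val hx⟩

end Cfsg.Agent.UnitaryConj
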